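import Groth.Agent.DivModel.Residues
import Groth.Agent.H23.PnChart
import Groth.Agent.H23.RatExtend
import Groth.Agent.VarDim.Top
import Groth.Agent.VarDim.Scheme
import Groth.Agent.S2266
import Groth.Agent.PnCoh.Chow.Proper
import Groth.Prelude.Def_Pi1
import Mathlib.AlgebraicGeometry.Birational.Birational
import Mathlib.RingTheory.DiscreteValuationRing.TFAE

/-!
A birational model on which a divisorial valuation has a centre of height at most one.
-/

universe u

open CategoryTheory Limits AlgebraicGeometry TopologicalSpace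
open HomogeneousLocalization (Away)
open Groth.Agent.VarDim

set_option linter.style.haveILetI false
set_option backward.isDefEq.respectTransparency false
set_option backward.isDefEq.respectTransparency.types false

namespace Groth.Agent.DivModel

noncomputable section

variable {k : Type u} [Field k]

/-- The constants in the stalks. -/
def σ {X : Scheme.{u}} (f : X ⟶ Spec (CommRingCat.of k)) (x : X) : CommRingCat.of k ⟶ X.presheaf.stalk x :=
  (Scheme.ΓSpecIso (CommRingCat.of k)).inv ≫ f.appTop ≫ X.presheaf.germ ⊤ x trivial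

theorem specMap_σ {X : Scheme.{u}} (f : X ⟶ Spec (CommRingCat.of k)) (x : X) :
    Spec.map (σ f x) = X.fromSpecStalk x ≫ f := by
  have h : f = X.toSpecΓ ≫ Spec.map ((Scheme.ΓSpecIso (CommRingCat.of k)).inv ≫ f.appTop) := by
    rw [Spec.map_comp, ← Scheme.toSpecΓ_naturality_assoc, ← SpecMap_ΓSpecIso_hom, ← Spec.map_comp,
      Iso.inv_hom_id, Spec.map_id, Category.comp_id]
  conv_rhs => rw [h, Scheme.fromSpecStalk_toSpecΓ_assoc, ← Spec.map_comp]
  simp [σ]

theorem specializes_σ {X : Scheme.{u}} (f : X ⟶ Spec (CommRingCat.of k)) {x y : X} (h : x ⤳ y) :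
    σ f y ≫ X.presheaf.stalkSpecializes h = σ f x := by
  simp [σ, TopCat.Presheaf.germ_stalkSpecializes]

variable (k) in
/-- The affine chart of projective space. -/
def aff (m : ℕ) : Spec (CommRingCat.of (MvPolynomial (H23.PnChart.Idx m 0) k)) ⟶ CohB1.ProjSpace m k :=
  Spec.map (CommRingCat.ofHom (RingEquiv.ofBijective (H23.PnChart.fromChart m k 0)
    ⟨H23.PnChart.fromChart_injective m k 0, H23.PnChart.fromChart_surjective m k 0⟩).symm.toRingHom) ≫
    ZetaLib.chart m k 0

variable (k) in
theorem aff_toSpec (m : ℕ) : aff k m ≫ CohB1.ProjSpace.toSpec m k =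
    Spec.map (CommRingCat.ofHom (MvPolynomial.C : k →+* MvPolynomial (H23.PnChart.Idx m 0) k)) := by
  rw [aff, Category.assoc, ZetaLib.chart_toSpec, ← Spec.map_comp]
  congr 1
  refine CommRingCat.hom_ext (RingHom.ext fun c => ?_)
  show (RingEquiv.ofBijective (H23.PnChart.fromChart m k 0) ⟨H23.PnChart.fromChart_injective m k 0,
    H23.PnChart.fromChart_surjective m k 0⟩).symm (ZetaLib.base m k 0 c) = _
  rw [RingEquiv.symm_apply_eq]
  show _ = H23.PnChart.fromChart m k 0 (MvPolynomial.C c)
  rw [H23.PnChart.fromChart, MvPolynomial.eval₂Hom_C]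

variable (k) in
theorem isOpenImmersion_aff (m : ℕ) : IsOpenImmersion (aff k m) := by
  have : IsIso (CommRingCat.ofHom (RingEquiv.ofBijective (H23.PnChart.fromChart m k 0)
      ⟨H23.PnChart.fromChart_injective m k 0, H23.PnChart.fromChart_surjective m k 0⟩).symm.toRingHom) :=
    (ConcreteCategory.isIso_iff_bijective _).2 (RingEquiv.bijective _)
  unfold aff
  infer_instance

variable (k) in
theorem deg_aff (m : ℕ) (z : Spec (CommRingCat.of (MvPolynomial (H23.PnChart.Idx m 0) k)))
    (hz : z.asIdeal = ⊥) : deg (CohB1.ProjSpace.toSpec m k) (aff k m z) = m := by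
  haveI := isOpenImmersion_aff k m
  haveI : IsProper (CohB1.ProjSpace.toSpec m k) := PnCoh.Chow.isProper_toSpec m k
  rw [← deg_comp (CohB1.ProjSpace.toSpec m k) (aff k m) z]
  have hg : z = genericPoint (Spec (CommRingCat.of (MvPolynomial (H23.PnChart.Idx m 0) k))) := by
    refine Specializes.antisymm ?_ (genericPoint_specializes z) |>.eq
    exact (PrimeSpectrum.le_iff_specializes _ _).1 (show z.asIdeal ≤ _ by rw [hz]; exact bot_le)
  rw [hg]
  have h := topologicalKrullDim_eq_deg_genericPoint (aff k m ≫ CohB1.ProjSpace.toSpec m k)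
  rw [show topologicalKrullDim ↥(Spec (CommRingCat.of (MvPolynomial (H23.PnChart.Idx m 0) k))) = (m : WithBot ℕ∞) by
    refine (PrimeSpectrum.topologicalKrullDim_eq_ringKrullDim _).trans ?_
    rw [MvPolynomial.ringKrullDim_of_isNoetherianRing, ringKrullDim_eq_zero_of_field, zero_add]
    have : Nat.card (H23.PnChart.Idx m 0) = m := by
      simp [H23.PnChart.Idx]
    rw [this]] at h
  exact_mod_cast h.symm

/-- The residue transcendence degree through the stalk. -/
theorem deg_genericPoint {X : Scheme.{u}} [IsIntegral X] (f : X ⟶ Spec (CommRingCat.of k)) [LocallyOfFiniteType f] :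
    letI : Algebra k X.functionField := (σ f (genericPoint X)).hom.toAlgebra
    Algebra.trdeg k X.functionField = deg f (genericPoint X) := by
  letI : Algebra k X.functionField := (σ f (genericPoint X)).hom.toAlgebra
  letI : Algebra k (X.residueField (genericPoint X)) := (resHom f (genericPoint X)).toAlgebra
  let e : X.functionField →ₐ[k] X.residueField (genericPoint X) :=
    { toRingHom := (X.residue (genericPoint X)).hom, commutes' := fun _ => rfl }
  have he : Function.Bijective e := ⟨RingHom.injective (X.residue (genericPoint X)).hom, IsLocalRing.residue_surjective⟩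
  rw [deg_eq_tdeg, tdeg]
  exact (AlgEquiv.ofBijective e he).trdeg_eq

theorem image_genericPoint {X Y : Scheme.{u}} [IrreducibleSpace X] [IrreducibleSpace Y] (h : X ⟶ Y) [IsDominant h] :
    h (genericPoint X) = genericPoint Y := by
  refine (Specializes.antisymm ?_ (genericPoint_specializes _)).eq
  refine specializes_iff_mem_closure.2 ?_
  have h1 : closure (Set.range h) ⊆ closure {h (genericPoint X)} := by
    refine closure_minimal ?_ isClosed_closure
    rintro _ ⟨x, rfl⟩
    exact specializes_iff_mem_closure.1 ((genericPoint_specializes x).map h.continuous)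
  exact h1 (by rw [h.denseRange.closure_range]; trivial)

theorem valuationRing_stalk {X : Scheme.{u}} [IsIntegral X] [IsLocallyNoetherian X] (ξ : X)
    (hn : IsIntegrallyClosed (X.presheaf.stalk ξ)) (hξ : ringKrullDim (X.presheaf.stalk ξ) = 1) :
    ValuationRing (X.presheaf.stalk ξ) := by
  haveI := hn
  have hnf : ¬ IsField (X.presheaf.stalk ξ) := fun h => by
    rw [ringKrullDim_eq_zero_of_isField h] at hξ
    exact zero_ne_one hξ
  have h := (IsDiscreteValuationRing.TFAE (X.presheaf.stalk ξ) hnf).out 0 3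
  haveI : Ring.KrullDimLE 1 (X.presheaf.stalk ξ) := Ring.krullDimLE_iff.2 hξ.le
  haveI : IsDiscreteValuationRing (X.presheaf.stalk ξ) := h.2 ⟨hn, IsLocalRing.maximalIdeal (X.presheaf.stalk ξ),
    ⟨fun h => hnf (IsLocalRing.isField_iff_maximalIdeal_eq.2 h), (IsLocalRing.maximalIdeal.isMaximal _).isPrime⟩, fun P ⟨hP, hP'⟩ =>
      IsLocalRing.eq_maximalIdeal (Ideal.IsPrime.isMaximal_of_ne_bot hP' hP)⟩
  infer_instance

theorem exists_model (X Y : Over (Spec (CommRingCat.of k))) [LocallyOfFiniteType X.hom] [IsIntegral X.left]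
    (hXn : Pi1.IsNormalScheme X.left) [IsProper Y.hom] [IsIntegral Y.left]
    (ξ : ↥X.left) (hξ : ringKrullDim ↑(X.left.presheaf.stalk ξ) = 1)
    (f : X.left.PartialMap Y.left) (hf : f.hom ≫ Y.hom = f.domain.ι ≫ X.hom) [IsDominant f.hom] :
    ∃ (Y' : Over (Spec (CommRingCat.of k))) (_ : IsProper Y'.hom) (_ : IsIntegral Y'.left) (φ : Y' ⟶ Y)
      (P : Y'.left.PartialIso Y.left) (_ : P.iso.hom ≫ P.target.ι = P.source.ι ≫ φ.left)
      (g : X.left.PartialMap Y'.left) (_ : g.hom ≫ Y'.hom = g.domain.ι ≫ X.hom)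
      (_ : (g.compHom φ.left).toRationalMap = f.toRationalMap) (hξg : ξ ∈ g.domain),
      ringKrullDim ↑(Y'.left.presheaf.stalk (g.hom.base ⟨ξ, hξg⟩)) ≤ 1 := by
  haveI : IsLocallyNoetherian X.left := LocallyOfFiniteType.isLocallyNoetherian X.hom
  haveI : IsLocallyNoetherian Y.left := LocallyOfFiniteType.isLocallyNoetherian Y.hom
  let ηX := genericPoint X.left
  let ηY := genericPoint Y.left
  let R := X.left.presheaf.stalk ξ
  haveI hv : ValuationRing R := valuationRing_stalk ξ (hXn ξ).2 hξ
  letI : Algebra k X.left.functionField := (σ X.hom ηX).hom.toAlgebra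
  letI : Algebra k Y.left.functionField := (σ Y.hom ηY).hom.toAlgebra
  letI : Algebra k R := (σ X.hom ξ).hom.toAlgebra
  haveI : IsScalarTower k R X.left.functionField := IsScalarTower.of_algebraMap_eq fun c =>
    (congr($(specializes_σ X.hom (genericPoint_specializes ξ)).hom c)).symm
  -- the map on function fields
  have hgen : ηX ∈ f.domain := H23.RatExtend.genericPoint_mem _ f.dense_domain.nonempty.choose_spec
  let φY : Spec X.left.functionField ⟶ Y.left := f.fromSpecStalkOfMem hgen
  haveI : IsDominant f.domain.ι := ⟨by rw [DenseRange, Scheme.Opens.range_ι]; exact f.dense_domain⟩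
  have hφpt : φY (IsLocalRing.closedPoint X.left.functionField) = ηY := by
    haveI : IrreducibleSpace (f.domain : Scheme.{u}) :=
      haveI : Nonempty f.domain := ⟨⟨ηX, hgen⟩⟩; inferInstance
    refine Eq.trans ?_ (image_genericPoint f.hom)
    show (f.domain.fromSpecStalkOfMem ηX hgen ≫ f.hom) _ = _
    rw [Scheme.Hom.comp_apply]
    congr 1
    refine f.domain.ι.isOpenEmbedding.injective ?_
    rw [← Scheme.Hom.comp_apply, Scheme.Opens.fromSpecStalkOfMem_ι]
    exact Scheme.fromSpecStalk_closedPoint.trans (image_genericPoint f.domain.ι).symm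
  let θ : Y.left.functionField ⟶ X.left.functionField :=
    Y.left.presheaf.stalkSpecializes (specializes_of_eq hφpt) ≫ Scheme.stalkClosedPointTo φY
  have hθ : Spec.map θ ≫ Y.left.fromSpecStalk ηY = φY := by
    rw [Spec.map_comp, Category.assoc, Scheme.SpecMap_stalkSpecializes_fromSpecStalk,
      Scheme.Spec_stalkClosedPointTo_fromSpecStalk]
  have hθk : σ Y.hom ηY ≫ θ = σ X.hom ηX := by
    apply Spec.map_injective
    rw [Spec.map_comp, specMap_σ, specMap_σ, reassoc_of% hθ]
    show (f.domain.fromSpecStalkOfMem ηX hgen ≫ f.hom) ≫ Y.hom = _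
    rw [Category.assoc, hf, Scheme.Opens.fromSpecStalkOfMem_ι_assoc]
  letI : Algebra Y.left.functionField X.left.functionField := θ.hom.toAlgebra
  haveI : IsScalarTower k Y.left.functionField X.left.functionField :=
    IsScalarTower.of_algebraMap_eq fun c => (congr($(hθk).hom c)).symm
  -- dimensions
  let d := deg Y.hom ηY
  have hdR : deg X.hom ξ + 1 = deg X.hom ηX := by
    obtain ⟨b, hb, ⟨η, hη, hηd⟩, hmax⟩ := exists_deg_add_stalk X.hom ξ
    have hb1 : b = 1 := by
      have h1 := hb.symm.trans hξ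
      exact_mod_cast h1
    subst hb1
    have h1 := hmax ηX (genericPoint_specializes ξ)
    have h2 : deg X.hom η ≤ deg X.hom ηX := deg_le_of_specializes X.hom (genericPoint_specializes η)
    omega
  obtain ⟨u₀, s₀, hs₀, hind₀⟩ := exists_residues (k := k) (K := X.left.functionField) (L := Y.left.functionField)
    (R := R) (d := d) (n := deg X.hom ηX) (deg_genericPoint Y.hom) (deg_genericPoint X.hom) (by
      have h : Algebra.trdeg k (IsLocalRing.ResidueField R) = deg X.hom ξ := by
        rw [deg_eq_tdeg, tdeg]; rfl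
      rw [h, ← hdR]; norm_cast)
  let m := d - 1
  let e : H23.PnChart.Idx m 0 ≃ Fin m := Equiv.ulift.trans (finSuccAboveEquiv 0).symm
  let u := u₀ ∘ e
  let s := s₀ ∘ e
  have hind : AlgebraicIndependent k fun i => IsLocalRing.residue R (s i) := hind₀.comp e e.injective
  -- coordinates regular on an affine open
  choose W hW w₀ hw₀ using fun i : H23.PnChart.Idx m 0 => Y.left.presheaf.exists_germ_eq (u i)
  obtain ⟨V₀, hV, hηV, hVW⟩ : ∃ V : Y.left.Opens, IsAffineOpen V ∧ ηY ∈ V ∧ ∀ i, V ≤ W i := by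
    classical
    have h : ηY ∈ Finset.univ.inf W := by
      rw [← SetLike.mem_coe, Opens.coe_finset_inf]
      simpa using hW
    obtain ⟨_, ⟨V, hV, rfl⟩, hxV, hVW⟩ := Y.left.isBasis_affineOpens.exists_subset_of_mem_open h (Finset.univ.inf W).2
    exact ⟨V, hV, hxV, fun i => le_trans hVW (Finset.inf_le (Finset.mem_univ i))⟩
  let w : H23.PnChart.Idx m 0 → Γ(Y.left, V₀) := fun i => Y.left.presheaf.map (homOfLE (hVW i)).op (w₀ i)
  have hw : ∀ i, Y.left.presheaf.germ V₀ ηY hηV (w i) = u i := fun i => by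
    rw [← hw₀ i]; exact TopCat.Presheaf.germ_res_apply _ _ _ _ _
  let β : CommRingCat.of k ⟶ Γ(Y.left, V₀) := Spec.preimage (hV.fromSpec ≫ Y.hom)
  let ev : CommRingCat.of (MvPolynomial (H23.PnChart.Idx m 0) k) ⟶ Γ(Y.left, V₀) :=
    CommRingCat.ofHom (MvPolynomial.eval₂Hom β.hom w)
  let evR : CommRingCat.of (MvPolynomial (H23.PnChart.Idx m 0) k) ⟶ R :=
    CommRingCat.ofHom (MvPolynomial.eval₂Hom (σ X.hom ξ).hom s)
  let gη : Γ(Y.left, V₀) ⟶ Y.left.functionField := Y.left.presheaf.germ V₀ ηY hηV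
  have hgη : Spec.map gη ≫ hV.fromSpec = Y.left.fromSpecStalk ηY := hV.fromSpecStalk_eq_fromSpecStalk hηV
  have hβ : β ≫ gη = σ Y.hom ηY := by
    apply Spec.map_injective
    rw [Spec.map_comp, Spec.map_preimage, reassoc_of% hgη, specMap_σ]
  have hev : ev ≫ gη ≫ θ = evR ≫ X.left.presheaf.stalkSpecializes (genericPoint_specializes ξ) := by
    ext : 1
    refine MvPolynomial.ringHom_ext (fun c => ?_) (fun i => ?_)
    · show θ (gη (MvPolynomial.eval₂Hom β.hom w (MvPolynomial.C c))) =
        X.left.presheaf.stalkSpecializes _ (MvPolynomial.eval₂Hom (σ X.hom ξ).hom s (MvPolynomial.C c))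
      rw [MvPolynomial.eval₂Hom_C, MvPolynomial.eval₂Hom_C]
      exact congr($((reassoc_of% hβ) θ |>.trans (hθk.trans (specializes_σ X.hom (genericPoint_specializes ξ)).symm)).hom c)
    · show θ (gη (MvPolynomial.eval₂Hom β.hom w (MvPolynomial.X i))) =
        X.left.presheaf.stalkSpecializes _ (MvPolynomial.eval₂Hom (σ X.hom ξ).hom s (MvPolynomial.X i))
      rw [MvPolynomial.eval₂Hom_X', MvPolynomial.eval₂Hom_X']
      show θ (Y.left.presheaf.germ V₀ ηY hηV (w i)) = _
      rw [hw]
      exact (hs₀ (e i)).symm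
  haveI := isOpenImmersion_aff k m
  haveI : IsProper (CohB1.ProjSpace.toSpec m k) := PnCoh.Chow.isProper_toSpec m k
  let emb : Spec Γ(Y.left, V₀) ⟶ pullback Y.hom (CohB1.ProjSpace.toSpec m k) :=
    pullback.lift hV.fromSpec (Spec.map ev ≫ aff k m) (by
      rw [Category.assoc, aff_toSpec, ← Spec.map_comp, ← Spec.map_preimage (hV.fromSpec ≫ Y.hom)]
      congr 1
      refine CommRingCat.hom_ext (RingHom.ext fun c => ?_)
      exact (MvPolynomial.eval₂Hom_C β.hom w c).symm)
  haveI : IsImmersion (emb ≫ pullback.fst _ _) := by rw [pullback.lift_fst]; infer_instance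
  haveI : IsImmersion emb := IsImmersion.of_comp emb (pullback.fst _ _)
  haveI : QuasiCompact (emb ≫ pullback.fst _ _ ≫ Y.hom) := inferInstance
  haveI : QuasiCompact emb := MorphismProperty.of_postcomp (W := @QuasiCompact) (W' := @QuasiSeparated)
    emb (pullback.fst _ _ ≫ Y.hom) inferInstance ‹_›
  haveI : Nonempty V₀ := ⟨⟨ηY, hηV⟩⟩
  obtain ⟨hred, hirr⟩ := Groth.Agent.S2266.result emb
  haveI := hred
  haveI := hirr inferInstance inferInstance
  haveI : IsIntegral emb.image := isIntegral_of_irreducibleSpace_of_isReduced _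
  let Y' : Over (Spec (CommRingCat.of k)) := Over.mk (emb.imageι ≫ pullback.fst _ _ ≫ Y.hom)
  haveI : IsProper Y'.hom := by
    show IsProper (emb.imageι ≫ pullback.fst _ _ ≫ Y.hom)
    infer_instance
  haveI : IsIntegral Y'.left := ‹IsIntegral emb.image›
  let φ : Y' ⟶ Y := Over.homMk (emb.imageι ≫ pullback.fst _ _) (by simp [Y'])
  have hφ : emb.toImage ≫ φ.left = hV.fromSpec := by
    show emb.toImage ≫ emb.imageι ≫ pullback.fst _ _ = _
    rw [Scheme.Hom.toImage_imageι_assoc, pullback.lift_fst]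
  let P : Y'.left.PartialIso Y.left :=
    { source := emb.toImage.opensRange
      dense_source := emb.toImage.denseRange
      target := V₀
      dense_target := V₀.2.dense ⟨ηY, hηV⟩
      iso := emb.toImage.isoOpensRange.symm ≪≫ hV.isoSpec.symm }
  have hP : P.iso.hom ≫ P.target.ι = P.source.ι ≫ φ.left := by
    rw [← cancel_epi emb.toImage.isoOpensRange.hom]
    show emb.toImage.isoOpensRange.hom ≫ ((emb.toImage.isoOpensRange.inv ≫ hV.isoSpec.inv) ≫ V₀.ι) = _
    rw [Category.assoc, Iso.hom_inv_id_assoc, hV.isoSpec_inv_ι, Scheme.Hom.isoOpensRange_hom_ι_assoc, hφ]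
  -- the map to the model
  let φ₀ : Spec (X.left.presheaf.stalk ηX) ⟶ Y'.left := Spec.map (gη ≫ θ) ≫ emb.toImage
  have hφ₀φ : φ₀ ≫ φ.left = φY := by
    rw [← hθ, ← hgη, Category.assoc, hφ, Spec.map_comp, Category.assoc]
  have h₀ : φ₀ ≫ Y'.hom = X.left.fromSpecStalk ηX ≫ X.hom := by
    rw [← Over.w φ, reassoc_of% hφ₀φ]
    show (f.domain.fromSpecStalkOfMem ηX hgen ≫ f.hom) ≫ Y.hom = _
    rw [Category.assoc, hf, Scheme.Opens.fromSpecStalkOfMem_ι_assoc]
  obtain ⟨l, hl, hlsp⟩ := H23.RatExtend.exists_lift X.hom Y'.hom φ₀ h₀ ξ hv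
  haveI : Y'.left.IsSeparated := ⟨by rw [← terminal.comp_from Y'.hom]; infer_instance⟩
  obtain ⟨U, hηU, H, hTU, hH, hHη⟩ := H23.RatExtend.extend X.hom Y'.hom φ₀ h₀ {ξ} (by
    rintro p rfl
    exact ⟨l, hl, hlsp⟩)
  let g : X.left.PartialMap Y'.left := ⟨U, U.2.dense ⟨ηX, hηU⟩, H⟩
  have hξU : ξ ∈ U := hTU rfl
  have hHξ : U.fromSpecStalkOfMem ξ hξU ≫ H = l := by
    haveI : IsDominant (Spec.map (X.left.presheaf.stalkSpecializes (genericPoint_specializes ξ))) := by
      refine ⟨PrimeSpectrum.denseRange_comap_iff_ker_le_nilRadical _ |>.2 ?_⟩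
      rw [(RingHom.injective_iff_ker_eq_bot (X.left.presheaf.stalkSpecializes (genericPoint_specializes ξ)).hom).1 (IsFractionRing.injective R X.left.functionField)]
      exact bot_le
    refine ext_of_isDominant_of_isSeparated Y'.hom ?_
      (Spec.map (X.left.presheaf.stalkSpecializes (genericPoint_specializes ξ))) ?_
    · rw [hl, Category.assoc, hH, Scheme.Opens.fromSpecStalkOfMem_ι_assoc]
    · rw [reassoc_of% (H23.RatExtend.specializes_comp_fromSpecStalkOfMem U (genericPoint_specializes ξ) hξU hηU),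
        hHη, hlsp]
  have hgη' : (g.compHom φ.left).toRationalMap = f.toRationalMap := by
    refine Scheme.RationalMap.eq_of_fromFunctionField_eq _ _ ?_
    rw [Scheme.RationalMap.fromFunctionField_toRationalMap, Scheme.RationalMap.fromFunctionField_toRationalMap]
    show (g.compHom φ.left).fromSpecStalkOfMem _ = f.fromSpecStalkOfMem _
    rw [Scheme.PartialMap.fromSpecStalkOfMem_compHom]
    show (U.fromSpecStalkOfMem ηX hηU ≫ H) ≫ φ.left = φY
    rw [hHη, hφ₀φ]
  refine ⟨Y', inferInstance, inferInstance, φ, P, hP, g, hH, hgη', hξU, ?_⟩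
  -- the centre
  let q : Y'.left ⟶ CohB1.ProjSpace m k := emb.imageι ≫ pullback.snd _ _
  have hq : q ≫ CohB1.ProjSpace.toSpec m k = Y'.hom := by
    simp [q, Y', pullback.condition]
  let y' : Y'.left := g.hom.base ⟨ξ, hξU⟩
  have hy' : y' = l (IsLocalRing.closedPoint R) := by
    show H ⟨ξ, hξU⟩ = _
    rw [← hHξ, Scheme.Hom.comp_apply]
    congr 1
    refine U.ι.isOpenEmbedding.injective ?_
    rw [← Scheme.Hom.comp_apply, Scheme.Opens.fromSpecStalkOfMem_ι]
    exact Scheme.fromSpecStalk_closedPoint.symm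
  have hlq : l ≫ q = Spec.map evR ≫ aff k m := by
    haveI : IsDominant (Spec.map (X.left.presheaf.stalkSpecializes (genericPoint_specializes ξ))) := by
      refine ⟨PrimeSpectrum.denseRange_comap_iff_ker_le_nilRadical _ |>.2 ?_⟩
      rw [(RingHom.injective_iff_ker_eq_bot (X.left.presheaf.stalkSpecializes (genericPoint_specializes ξ)).hom).1 (IsFractionRing.injective R X.left.functionField)]
      exact bot_le
    refine ext_of_isDominant_of_isSeparated (CohB1.ProjSpace.toSpec m k) ?_
      (Spec.map (X.left.presheaf.stalkSpecializes (genericPoint_specializes ξ))) ?_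
    · rw [Category.assoc, hq, hl, ← specMap_σ, Category.assoc, aff_toSpec, ← Spec.map_comp]
      congr 1
      refine CommRingCat.hom_ext (RingHom.ext fun c => ?_)
      exact (MvPolynomial.eval₂Hom_C (σ X.hom ξ).hom s c).symm
    · rw [reassoc_of% hlsp, ← Spec.map_comp_assoc, ← hev, Spec.map_comp, Category.assoc]
      show Spec.map (gη ≫ θ) ≫ emb.toImage ≫ emb.imageι ≫ pullback.snd _ _ = _
      rw [Scheme.Hom.toImage_imageι_assoc, pullback.lift_snd, Category.assoc]
  have hz : (Spec.map evR (IsLocalRing.closedPoint R)).asIdeal = ⊥ := by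
    refine le_bot_iff.1 fun p hp => ?_
    change MvPolynomial.eval₂Hom (σ X.hom ξ).hom s p ∈ IsLocalRing.maximalIdeal R at hp
    rw [← IsLocalRing.residue_eq_zero_iff] at hp
    refine (algebraicIndependent_iff.1 hind) p ?_
    refine Eq.trans ?_ hp
    rw [MvPolynomial.coe_eval₂Hom, MvPolynomial.eval₂_comp_left]
    rfl
  have hqy : deg (CohB1.ProjSpace.toSpec m k) (q y') = m := by
    rw [hy', ← Scheme.Hom.comp_apply, hlq, Scheme.Hom.comp_apply]
    exact deg_aff k m _ hz
  have hle := deg_map_le q (CohB1.ProjSpace.toSpec m k) hq y'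
  rw [hqy] at hle
  have htop : deg Y'.hom (genericPoint Y'.left) = d := by
    haveI : Nonempty (Spec Γ(Y.left, V₀)) := ⟨Spec.map gη (IsLocalRing.closedPoint _)⟩
    haveI : IsIntegral (Spec Γ(Y.left, V₀)) := inferInstance
    have h1 : emb.toImage (genericPoint (Spec Γ(Y.left, V₀))) = genericPoint Y'.left := image_genericPoint _
    have h2 : hV.fromSpec (genericPoint (Spec Γ(Y.left, V₀))) = ηY := by
      haveI : IsDominant hV.fromSpec := ⟨hV.fromSpec.isOpenEmbedding.isOpen_range.dense (Set.range_nonempty _)⟩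
      exact image_genericPoint _
    rw [← h1]
    show _ = deg Y.hom ηY
    rw [← h2]
    exact ((deg_comp Y'.hom emb.toImage _).symm.trans (deg_congr (by rw [← hφ, Category.assoc, Over.w φ]) _)).trans
      (deg_comp Y.hom hV.fromSpec _)
  obtain ⟨b, hb, ⟨η, hη, hηd⟩, -⟩ := exists_deg_add_stalk Y'.hom y'
  have hηle := deg_le_of_specializes Y'.hom (genericPoint_specializes η : genericPoint Y'.left ⤳ η)
  rw [htop, hηd] at hηle
  show ringKrullDim (Y'.left.presheaf.stalk y') ≤ 1
  rw [hb]
  have : b ≤ 1 := by omega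
  exact_mod_cast this

end

end Groth.Agent.DivModel
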