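import Mathlib.RingTheory.AlgebraicIndependent.TranscendenceBasis
import Mathlib.RingTheory.Valuation.ValuationRing
import Mathlib.RingTheory.LocalRing.ResidueField.Basic
import Mathlib.FieldTheory.IntermediateField.Algebraic

/-!
Residues of elements of a subfield lying in a valuation ring.
-/

universe u

open IsLocalRing

namespace Groth.Agent.DivModel

variable {k K L R : Type u} [Field k] [Field K] [Field L] [CommRing R] [IsDomain R] [ValuationRing R]
  [Algebra k K] [Algebra k L] [Algebra k R] [Algebra R K] [IsScalarTower k R K] [IsFractionRing R K]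
  [Algebra L K] [IsScalarTower k L K]

/-- The residues of the elements of the subfield lying in the valuation ring. -/
noncomputable def resField (k L : Type u) {K R : Type u} [Field k] [Field K] [Field L] [CommRing R] [IsDomain R]
    [ValuationRing R] [Algebra k K] [Algebra k L] [Algebra k R] [Algebra R K] [IsScalarTower k R K]
    [IsFractionRing R K] [Algebra L K] [IsScalarTower k L K] :
    IntermediateField k (ResidueField R) where
  toSubalgebra := Subalgebra.map (IsScalarTower.toAlgHom k R (ResidueField R))
    ((IsScalarTower.toAlgHom k L K).range.comap (IsScalarTower.toAlgHom k R K))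
  inv_mem' := by
    rintro _ ⟨r, ⟨l, hl⟩, rfl⟩
    change algebraMap L K l = algebraMap R K r at hl
    change (residue R r)⁻¹ ∈ _
    by_cases hr : IsUnit r
    · obtain ⟨v, rfl⟩ := hr
      refine ⟨(↑v⁻¹ : R), ⟨l⁻¹, ?_⟩, ?_⟩
      · change algebraMap L K l⁻¹ = algebraMap R K ↑v⁻¹
        rw [map_inv₀, hl]
        refine inv_eq_of_mul_eq_one_right ?_
        rw [← map_mul, Units.mul_inv, map_one]
      · change residue R ↑v⁻¹ = (residue R ↑v)⁻¹
        refine (inv_eq_of_mul_eq_one_right ?_).symm
        rw [← map_mul, Units.mul_inv, map_one]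
    · rw [residue_eq_zero_iff _ |>.2 (by simpa using hr), inv_zero]
      exact ⟨0, ⟨0, by simp⟩, by simp⟩

theorem mem_resField {x : ResidueField R} :
    x ∈ resField k L (K := K) ↔ ∃ (r : R) (l : L), algebraMap L K l = algebraMap R K r ∧ residue R r = x := by
  constructor
  · rintro ⟨r, ⟨l, hl⟩, rfl⟩; exact ⟨r, l, hl, rfl⟩
  · rintro ⟨r, l, hl, rfl⟩; exact ⟨r, ⟨l, hl⟩, rfl⟩

/-- Lifts of residues independent over the residues of the subfield are independent over the subfield. -/
theorem algebraicIndependent_lift {ι : Type u} (w : ι → R)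
    (hw : AlgebraicIndependent (resField k L (K := K) (R := R)) fun i => residue R (w i)) :
    AlgebraicIndependent L fun i => algebraMap R K (w i) := by
  classical
  rw [algebraicIndependent_iff]
  intro p hp
  by_contra hne
  obtain ⟨c, hc⟩ : p.support.Nonempty := MvPolynomial.support_nonempty.2 hne
  -- a coefficient dominating all others
  have hbest : ∃ c ∈ p.support, ∀ e ∈ p.support, ∃ r : R,
      algebraMap R K r * algebraMap L K (p.coeff c) = algebraMap L K (p.coeff e) := by
    have hgen : ∀ s : Finset (ι →₀ ℕ), s.Nonempty → (∀ e ∈ s, p.coeff e ≠ 0) → ∃ c ∈ s, ∀ e ∈ s, ∃ r : R,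
        algebraMap R K r * algebraMap L K (p.coeff c) = algebraMap L K (p.coeff e) := by
      intro s hs
      induction s using Finset.induction with
      | empty => exact absurd hs Finset.not_nonempty_empty
      | insert a s ha ih =>
        intro h0
        rcases s.eq_empty_or_nonempty with rfl | hs'
        · exact ⟨a, by simp, fun e he => ⟨1, by simp_all⟩⟩
        obtain ⟨c, hc, hmax⟩ := ih hs' fun e he => h0 e (Finset.mem_insert_of_mem he)
        have hc0 : algebraMap L K (p.coeff c) ≠ 0 :=
          (map_ne_zero _).2 (h0 c (Finset.mem_insert_of_mem hc))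
        have ha0 : algebraMap L K (p.coeff a) ≠ 0 := (map_ne_zero _).2 (h0 a (Finset.mem_insert_self _ _))
        rcases ValuationRing.isInteger_or_isInteger R (algebraMap L K (p.coeff a) / algebraMap L K (p.coeff c)) with
          ⟨r, hr⟩ | ⟨r, hr⟩
        · refine ⟨c, Finset.mem_insert_of_mem hc, fun e he => ?_⟩
          rcases Finset.mem_insert.1 he with rfl | he
          · exact ⟨r, by rw [hr, div_mul_cancel₀ _ hc0]⟩
          · exact hmax e he
        · refine ⟨a, Finset.mem_insert_self _ _, fun e he => ?_⟩
          rcases Finset.mem_insert.1 he with rfl | he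
          · exact ⟨1, by simp⟩
          · obtain ⟨r', hr'⟩ := hmax e he
            exact ⟨r' * r, by rw [map_mul, hr, inv_div, mul_assoc, div_mul_cancel₀ _ ha0, hr']⟩
    exact hgen _ ⟨c, hc⟩ fun e he => MvPolynomial.mem_support_iff.1 he
  obtain ⟨c, hc, hmax⟩ := hbest
  have hc0 : p.coeff c ≠ 0 := MvPolynomial.mem_support_iff.1 hc
  have hc0' : algebraMap L K (p.coeff c) ≠ 0 := (map_ne_zero _).2 hc0
  choose r hr using hmax
  have hmem : ∀ e (he : e ∈ p.support), residue R (r e he) ∈ resField k L (K := K) (R := R) := fun e he =>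
    mem_resField.2 ⟨r e he, p.coeff e / p.coeff c, by
      rw [map_div₀, ← hr e he, mul_div_assoc, div_self hc0', mul_one], rfl⟩
  let q : MvPolynomial ι (resField k L (K := K) (R := R)) :=
    ∑ e ∈ p.support.attach, MvPolynomial.monomial e.1 ⟨residue R (r e.1 e.2), hmem e.1 e.2⟩
  have hq0 : MvPolynomial.aeval (fun i => residue R (w i)) q = 0 := by
    have h1 : algebraMap R K (∑ e ∈ p.support.attach, r e.1 e.2 * e.1.prod fun i j => w i ^ j) = 0 := by
      refine mul_right_cancel₀ hc0' ?_
      rw [zero_mul, map_sum, Finset.sum_mul]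
      have h2 : MvPolynomial.aeval (fun i => algebraMap R K (w i)) p =
          ∑ e ∈ p.support, algebraMap L K (p.coeff e) * e.prod fun i j => algebraMap R K (w i) ^ j :=
        by rw [MvPolynomial.aeval_def, MvPolynomial.eval₂_eq]; rfl
      rw [hp] at h2
      rw [h2, ← p.support.sum_attach fun e => algebraMap L K (p.coeff e) * e.prod fun i j => algebraMap R K (w i) ^ j]
      refine Finset.sum_congr rfl fun e _ => ?_
      rw [map_mul, mul_right_comm, hr e.1 e.2, map_finsuppProd]
      simp only [map_pow]
    rw [IsFractionRing.injective R K |>.eq_iff' (map_zero _)] at h1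
    have h3 := congrArg (residue R) h1
    rw [map_sum, map_zero] at h3
    refine Eq.trans ?_ h3
    simp only [q, map_sum]
    refine Finset.sum_congr rfl fun e _ => ?_
    rw [MvPolynomial.aeval_monomial, map_mul, map_finsuppProd]
    simp only [map_pow]
    rfl
  have hq := algebraicIndependent_iff.1 hw q hq0
  have hcoef : q.coeff c = ⟨residue R (r c hc), hmem c hc⟩ := by
    simp only [q, MvPolynomial.coeff_sum, MvPolynomial.coeff_monomial]
    rw [Finset.sum_eq_single_of_mem ⟨c, hc⟩ (Finset.mem_attach _ _)]
    · simp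
    · intro e _ he
      rw [if_neg]
      exact fun h => he (Subtype.ext h)
  rw [hq, MvPolynomial.coeff_zero] at hcoef
  have h4 : algebraMap R K (r c hc) = 1 := mul_right_cancel₀ hc0' (by rw [hr c hc, one_mul])
  have h5 : r c hc = 1 := IsFractionRing.injective R K (h4.trans (map_one _).symm)
  have h6 := congrArg Subtype.val hcoef
  simp only [h5, map_one] at h6
  exact zero_ne_one h6

/-- Elements of the subfield in the valuation ring with independent residues. -/
theorem exists_residues {d n : ℕ} (hL : Algebra.trdeg k L = d) (hK : Algebra.trdeg k K = n)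
    (hR : Algebra.trdeg k (ResidueField R) + 1 = n) :
    ∃ (u : Fin (d - 1) → L) (s : Fin (d - 1) → R),
      (∀ i, algebraMap R K (s i) = algebraMap L K (u i)) ∧
      AlgebraicIndependent k fun i => residue R (s i) := by
  let F := resField k L (K := K) (R := R)
  obtain ⟨ι, x, hx⟩ := exists_isTranscendenceBasis' F (ResidueField R)
  choose w hw using fun i => residue_surjective (R := R) (x i)
  have hind : AlgebraicIndependent L fun i => algebraMap R K (w i) :=
    algebraicIndependent_lift w (by simpa [funext hw] using hx.1)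
  have h1 : Cardinal.mk ι ≤ Algebra.trdeg L K := hind.cardinalMk_le_trdeg
  rw [hx.cardinalMk_eq_trdeg] at h1
  have h2 : Algebra.trdeg k L + Algebra.trdeg L K = Algebra.trdeg k K := trdeg_add_eq k L
  have h3 : Algebra.trdeg k F + Algebra.trdeg F (ResidueField R) = Algebra.trdeg k (ResidueField R) :=
    trdeg_add_eq k F
  have hd : ((d - 1 : ℕ) : Cardinal.{u}) ≤ Algebra.trdeg k F := by
    obtain ⟨a, ha⟩ := Cardinal.lt_aleph0.1 (lt_of_le_of_lt (le_add_self.trans h2.le) (hK ▸ Cardinal.natCast_lt_aleph0 (n := n)))
    obtain ⟨b, hb⟩ := Cardinal.lt_aleph0.1 (lt_of_le_of_lt (h1.trans ha.le) (Cardinal.natCast_lt_aleph0 (n := a)))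
    have hfin : Algebra.trdeg k (ResidueField R) < Cardinal.aleph0 :=
      lt_of_le_of_lt (le_self_add.trans hR.le) (Cardinal.natCast_lt_aleph0 (n := n))
    obtain ⟨c, hc⟩ := Cardinal.lt_aleph0.1 (lt_of_le_of_lt (le_self_add.trans h3.le) hfin)
    rw [hc]
    rw [hL, ha, hK] at h2
    rw [hb, ha] at h1
    rw [← h3, hc, hb] at hR
    norm_cast at h1 h2 hR ⊢
    omega
  obtain ⟨ι', x', hx'⟩ := exists_isTranscendenceBasis' k F
  rw [← hx'.cardinalMk_eq_trdeg] at hd
  have hd' : Cardinal.mk (ULift.{u} (Fin (d - 1))) ≤ Cardinal.mk ι' := by simpa using hd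
  obtain ⟨g⟩ := (Cardinal.le_def _ _).1 hd'
  choose s u hsu hres using fun i : Fin (d - 1) => mem_resField.1 (x' (g ⟨i⟩)).2
  refine ⟨u, s, fun i => (hsu i).symm, ?_⟩
  have h4 := (hx'.1.comp (fun i : Fin (d - 1) => g ⟨i⟩) (fun a b h => ULift.up_injective (g.injective h))).map'
    (f := F.val) Subtype.val_injective
  convert h4 using 1
  funext i
  exact hres i

end Groth.Agent.DivModel
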